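import Mathlib.Algebra.Module.CharacterModule
import Mathlib.Topology.Instances.AddCircle.Defs
import Mathlib.Topology.Algebra.OpenSubgroup
import Mathlib.Topology.Separation.Profinite
import Mathlib.GroupTheory.Index
import Mathlib.GroupTheory.QuotientGroup.Finite

/-!
# Characters into `ℚ/ℤ` with open kernel
-/

namespace Groth.Agent.Lib.ProCompl.Characters

open Set Topology

universe u v

/-- The group `ℚ/ℤ`. -/
abbrev QZ : Type := ℚ ⧸ AddSubgroup.zmultiples (1 : ℚ)

variable {A : Type u} [AddCommGroup A]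

lemma finite_torsion {n : ℕ} (hn : 0 < n) : {u : QZ | n • u = 0}.Finite :=
  AddCircle.finite_torsion (1 : ℚ) hn

lemma exists_nsmul_eq_zero (u : QZ) : ∃ n : ℕ, 0 < n ∧ n • u = 0 := by
  obtain ⟨q, rfl⟩ := QuotientAddGroup.mk_surjective u
  refine ⟨q.den, q.den_pos, (QuotientAddGroup.eq_zero_iff _).mpr ⟨q.num, ?_⟩⟩
  simp

lemma exists_apply_ne_zero {a : A} (ha : a ≠ 0) : ∃ χ : A →+ QZ, χ a ≠ 0 :=
  CharacterModule.exists_character_apply_ne_zero_of_ne_zero ha

lemma exists_extend {B : Type v} [AddCommGroup B] {f : A →+ B} (hf : Function.Injective f)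
    (χ : A →+ QZ) : ∃ ψ : B →+ QZ, ψ.comp f = χ := by
  obtain ⟨ψ, hψ⟩ := CharacterModule.dual_surjective_of_injective f.toIntLinearMap hf χ
  exact ⟨ψ, hψ⟩

/-- A character with finitely many values has kernel of finite index. -/
lemma finiteIndex_ker_of_finite_range (χ : A →+ QZ) (h : (range χ).Finite) :
    χ.ker.FiniteIndex := by
  have : Finite χ.range := h.to_subtype
  have : Finite (A ⧸ χ.ker) := .of_equiv _ (QuotientAddGroup.quotientKerEquivRange χ).symm.toEquiv
  exact AddSubgroup.finiteIndex_of_finite_quotient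

/-- A character killed by a positive integer has kernel of finite index. -/
lemma finiteIndex_ker_of_nsmul (χ : A →+ QZ) {n : ℕ} (hn : 0 < n)
    (h : ∀ x, n • χ x = 0) : χ.ker.FiniteIndex :=
  finiteIndex_ker_of_finite_range χ
    ((finite_torsion hn).subset (range_subset_iff.mpr h))

/-- An element outside `nA` is avoided by a finite index subgroup containing `nA`. -/
lemma exists_finiteIndex_not_mem {n : ℕ} (hn : 0 < n) {a : A}
    (ha : ∀ b : A, n • b ≠ a) :
    ∃ B : AddSubgroup A, B.FiniteIndex ∧ a ∉ B ∧ ∀ b : A, n • b ∈ B := by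
  let N : AddSubgroup A := (nsmulAddMonoidHom n : A →+ A).range
  have hne : QuotientAddGroup.mk' N a ≠ 0 := fun h ↦ by
    obtain ⟨b, hb⟩ := (QuotientAddGroup.eq_zero_iff a).mp h
    exact ha b hb
  obtain ⟨χ, hχ⟩ := exists_apply_ne_zero hne
  have hkill : ∀ b : A, (χ.comp (QuotientAddGroup.mk' N)) (n • b) = 0 := fun b ↦ by
    have : QuotientAddGroup.mk' N (n • b) = 0 :=
      (QuotientAddGroup.eq_zero_iff _).mpr ⟨b, rfl⟩
    rw [AddMonoidHom.comp_apply, this, map_zero]
  exact ⟨(χ.comp (QuotientAddGroup.mk' N)).ker,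
    finiteIndex_ker_of_nsmul _ hn fun x ↦ by rw [← map_nsmul]; exact hkill x, hχ, hkill⟩

/-- In a short exact sequence, absence of divisible elements passes to the middle when the
torsion of the quotient is bounded. -/
lemma divisible_eq_zero {A' A'' : Type*} [AddCommGroup A'] [AddCommGroup A'']
    (f : A' →+ A) (g : A →+ A'') (hf : Function.Injective f)
    (hfg : g.ker = f.range) (h' : ∀ x : A', (∀ n : ℕ, 0 < n → ∃ y : A', n • y = x) → x = 0)
    (h'' : ∀ x : A'', (∀ n : ℕ, 0 < n → ∃ y : A'', n • y = x) → x = 0)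
    (htors : ∃ N : ℕ, 0 < N ∧ ∀ x : A'', IsOfFinAddOrder x → N • x = 0)
    (x : A) (hx : ∀ n : ℕ, 0 < n → ∃ y : A, n • y = x) : x = 0 := by
  obtain ⟨N, hN, hN'⟩ := htors
  have hgx : g x = 0 := h'' _ fun n hn ↦ by
    obtain ⟨y, hy⟩ := hx n hn
    exact ⟨g y, by rw [← map_nsmul, hy]⟩
  obtain ⟨x', hx'⟩ : x ∈ f.range := hfg ▸ hgx
  have : x' = 0 := h' _ fun n hn ↦ by
    obtain ⟨y, hy⟩ := hx (n * N) (Nat.mul_pos hn hN)
    have htor : N • g y = 0 := hN' _ (isOfFinAddOrder_iff_nsmul_eq_zero.mpr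
      ⟨n * N, Nat.mul_pos hn hN, by rw [← map_nsmul, hy, hgx]⟩)
    obtain ⟨z, hz⟩ : N • y ∈ f.range := hfg ▸ (by rw [AddMonoidHom.mem_ker, map_nsmul]; exact htor)
    exact ⟨z, hf (by rw [map_nsmul, hz, ← mul_nsmul', hy, hx'])⟩
  rw [← hx', this, map_zero]

variable [TopologicalSpace A] [IsTopologicalAddGroup A]

/-- Characters with open kernel of compactly generated groups have kernel of finite index. -/
lemma finiteIndex_ker_of_compactlyGenerated
    (hcg : ∃ K : Set A, IsCompact K ∧ AddSubgroup.closure K = ⊤) (χ : A →+ QZ)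
    (hχ : IsOpen (χ.ker : Set A)) : χ.ker.FiniteIndex := by
  obtain ⟨K, hK, hgen⟩ := hcg
  obtain ⟨t, -, ht, hcov⟩ := hK.elim_finite_subcover_image (b := K)
    (c := fun k ↦ {x | χ x = χ k}) (fun k _ ↦ by
      have : {x | χ x = χ k} = (fun x ↦ x - k) ⁻¹' (χ.ker : Set A) := by
        ext x
        simp [sub_eq_zero]
      rw [this]
      exact hχ.preimage (continuous_id.sub continuous_const))
    (fun x hx ↦ mem_iUnion₂.mpr ⟨x, hx, rfl⟩)
  have hfin : (χ '' K).Finite := (ht.image χ).subset (by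
    rintro _ ⟨x, hx, rfl⟩
    obtain ⟨k, hk, hxk⟩ := mem_iUnion₂.mp (hcov hx)
    exact ⟨k, hk, hxk.symm⟩)
  obtain ⟨n, hn, hn'⟩ : ∃ n, 0 < n ∧ ∀ u ∈ χ '' K, n • u = 0 :=
    by
      choose d hd hd' using exists_nsmul_eq_zero
      refine ⟨∏ u ∈ hfin.toFinset, d u, Finset.prod_pos fun u _ ↦ hd u, fun u hu ↦ ?_⟩
      obtain ⟨m, hm⟩ := Finset.dvd_prod_of_mem d (hfin.mem_toFinset.mpr hu)
      rw [hm, mul_nsmul, hd', nsmul_zero]
  refine finiteIndex_ker_of_nsmul χ hn fun x ↦ ?_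
  have : AddSubgroup.closure K ≤ ((nsmulAddMonoidHom n).comp χ).ker :=
    (AddSubgroup.closure_le _).mpr fun k hk ↦ hn' _ (mem_image_of_mem χ hk)
  exact this (hgen ▸ AddSubgroup.mem_top x)

/-- van Dantzig: small compact open subgroups of locally compact totally disconnected groups. -/
lemma exists_compactOpen_subgroup [T2Space A] [LocallyCompactSpace A] [TotallyDisconnectedSpace A]
    {U : Set A} (hU : IsOpen U) (h0 : (0 : A) ∈ U) :
    ∃ H : AddSubgroup A, IsOpen (H : Set A) ∧ IsCompact (H : Set A) ∧ (H : Set A) ⊆ U := by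
  obtain ⟨L, hLn, hLU, hLc⟩ := local_compact_nhds (hU.mem_nhds h0)
  obtain ⟨W, hW, h0W, hWL⟩ :=
    (loc_compact_Haus_tot_disc_of_zero_dim (H := A)).exists_subset_of_mem_open
      (mem_interior_iff_mem_nhds.mpr hLn) isOpen_interior
  have hWc : IsCompact W := hLc.of_isClosed_subset hW.1 (hWL.trans interior_subset)
  obtain ⟨V, hV, hVW⟩ := compact_open_separated_add_left hWc hW.2 subset_rfl
  let S : AddSubgroup A :=
    { carrier := {g | ∀ w ∈ W, g + w ∈ W ∧ -g + w ∈ W}
      zero_mem' := fun w hw ↦ by simp [hw]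
      add_mem' := fun {a b} ha hb w hw ↦
        ⟨by rw [add_assoc]; exact (ha _ (hb w hw).1).1,
          by rw [neg_add_rev, add_assoc]; exact (hb _ (ha w hw).2).2⟩
      neg_mem' := fun {a} ha w hw ↦ ⟨(ha w hw).2, by rw [neg_neg]; exact (ha w hw).1⟩ }
  have hSW : (S : Set A) ⊆ W := fun g hg ↦ by simpa using (hg 0 h0W).1
  have hSn : (S : Set A) ∈ nhds (0 : A) := by
    have hneg : (fun x : A ↦ -x) ⁻¹' V ∈ nhds (0 : A) :=
      continuous_neg.continuousAt.preimage_mem_nhds (by simpa using hV)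
    filter_upwards [hV, hneg] with g hg hg' w hw
    exact ⟨hVW (add_mem_add hg hw), hVW (add_mem_add hg' hw)⟩
  have hSo : IsOpen (S : Set A) := S.isOpen_of_mem_nhds hSn
  exact ⟨S, hSo, hWc.of_isClosed_subset (OpenAddSubgroup.isClosed ⟨S, hSo⟩) hSW,
    hSW.trans (hWL.trans (interior_subset.trans hLU))⟩

end Groth.Agent.Lib.ProCompl.Characters
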