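import Groth.Prelude.Def_W4c61motalbdualityCompl
import Mathlib.Topology.Compactness.Compact
import Mathlib.Topology.Constructions
import Mathlib.Topology.Separation.Hausdorff

/-!
# Completion with respect to open subgroups of finite index: the image of an induced map
-/

namespace Groth.Agent.Lib.ProCompl.FICompl

open W4c61motalbduality Set

universe u v

variable {A : Type u} [AddCommGroup A] [TopologicalSpace A]
variable {B : Type v} [AddCommGroup B] [TopologicalSpace B]

/-- The intersection of two open subgroups of finite index. -/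
def inter (U V : OpenFI A) : OpenFI A where
  toAddSubgroup := U.toAddSubgroup ⊓ V.toAddSubgroup
  isOpen' := U.isOpen'.inter V.isOpen'
  finiteIndex' := by
    have := U.finiteIndex'
    have := V.finiteIndex'
    infer_instance

/-- The whole group. -/
def top (A : Type u) [AddCommGroup A] [TopologicalSpace A] : OpenFI A where
  toAddSubgroup := ⊤
  isOpen' := isOpen_univ
  finiteIndex' := inferInstance

lemma exists_lower (s : Finset (OpenFI A)) :
    ∃ U : OpenFI A, ∀ V ∈ s, U.toAddSubgroup ≤ V.toAddSubgroup := by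
  classical
  induction s using Finset.induction_on with
  | empty => exact ⟨top A, by simp⟩
  | insert a s _ ih =>
    obtain ⟨U, hU⟩ := ih
    refine ⟨inter a U, fun V hV ↦ ?_⟩
    rcases Finset.mem_insert.mp hV with rfl | hV
    · exact inf_le_left
    · exact inf_le_right.trans (hU V hV)

/-- A family which at every level lies in the image of `f` is in the image of the completed
map. -/
theorem mem_range_map (f : A →+ B) (hf : Continuous f) (y : FICompl B)
    (h : ∀ V : OpenFI B, ∃ a : A, (QuotientAddGroup.mk (f a) : B ⧸ V.toAddSubgroup) = y.1 V) :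
    y ∈ (FICompl.map f hf).range := by
  classical
  let τ : (U : OpenFI A) → TopologicalSpace (A ⧸ U.toAddSubgroup) := fun _ ↦ ⊥
  have hfin : ∀ U : OpenFI A, Finite (A ⧸ U.toAddSubgroup) := fun U ↦ by
    have := U.finiteIndex'
    exact AddSubgroup.finite_quotient_of_finiteIndex
  have hdisc : ∀ U, @DiscreteTopology _ (τ U) := fun U ↦ @DiscreteTopology.mk _ (τ U) rfl
  letI : TopologicalSpace ((U : OpenFI A) → A ⧸ U.toAddSubgroup) := @Pi.topologicalSpace _ _ τ
  have hcomp : CompactSpace ((U : OpenFI A) → A ⧸ U.toAddSubgroup) :=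
    @Pi.compactSpace _ _ τ fun U ↦ @Finite.compactSpace _ (τ U) (hfin U)
  let ι := {p : OpenFI A × OpenFI A // p.1.toAddSubgroup ≤ p.2.toAddSubgroup} ⊕ OpenFI B
  let C : ι → Set ((U : OpenFI A) → A ⧸ U.toAddSubgroup) := Sum.elim
    (fun p ↦ {x | QuotientAddGroup.map _ _ (AddMonoidHom.id A) p.2 (x p.1.1) = x p.1.2})
    (fun V ↦ {x | QuotientAddGroup.map (V.comap f hf).toAddSubgroup V.toAddSubgroup f
      (V.comap_le f) (x (V.comap f hf)) = y.1 V})
  have key : ∀ (U : OpenFI A) (S : Set (A ⧸ U.toAddSubgroup)),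
      IsClosed ((fun x : (U : OpenFI A) → A ⧸ U.toAddSubgroup ↦ x U) ⁻¹' S) := fun U S ↦
    @IsClosed.preimage _ _ _ (τ U) _ (@continuous_apply _ _ τ U) S
      (@isClosed_discrete _ (τ U) (hdisc U) S)
  have hC : ∀ o, IsClosed (C o) := by
    rintro (p | V)
    · have heq : C (.inl p) = ⋃ q, (fun x : (U : OpenFI A) → A ⧸ U.toAddSubgroup ↦ x p.1.1) ⁻¹' {q} ∩
          (fun x ↦ x p.1.2) ⁻¹' {QuotientAddGroup.map _ _ (AddMonoidHom.id A) p.2 q} := by
        ext x
        simp only [C, Sum.elim_inl, Set.mem_ofPred_eq, mem_iUnion, mem_inter_iff, mem_preimage,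
          mem_singleton_iff]
        exact ⟨fun h ↦ ⟨_, rfl, h.symm⟩, fun ⟨q, h1, h2⟩ ↦ h1 ▸ h2.symm⟩
      rw [heq]
      have := hfin p.1.1
      exact isClosed_iUnion_of_finite fun q ↦ (key p.1.1 {q}).inter (key p.1.2 _)
    · exact key (V.comap f hf) {q | QuotientAddGroup.map (V.comap f hf).toAddSubgroup V.toAddSubgroup
        f (V.comap_le f) q = y.1 V}
  obtain ⟨x, -, hx⟩ := isCompact_univ.inter_iInter_nonempty C hC fun s ↦ by
    obtain ⟨V₀, hV₀⟩ := exists_lower s.toRight
    obtain ⟨a, ha⟩ := h V₀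
    refine ⟨fun U ↦ QuotientAddGroup.mk a, trivial, mem_iInter₂.mpr ?_⟩
    rintro (p | V) ho
    · rfl
    · show QuotientAddGroup.map _ _ f _ (QuotientAddGroup.mk a) = y.1 V
      rw [← y.2 V₀ V (hV₀ V (Finset.mem_toRight.mpr ho)), ← ha]
      rfl
  rw [mem_iInter] at hx
  refine ⟨⟨x, fun U V hUV ↦ hx (.inl ⟨(U, V), hUV⟩)⟩, ?_⟩
  exact Subtype.ext (funext fun V ↦ hx (.inr V))

lemma map_apply (f : A →+ B) (hf : Continuous f) (x : FICompl A) (V : OpenFI B) :
    (FICompl.map f hf x).1 V = QuotientAddGroup.map (V.comap f hf).toAddSubgroup V.toAddSubgroup f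
      (V.comap_le f) (x.1 (V.comap f hf)) := rfl

end Groth.Agent.Lib.ProCompl.FICompl
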