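import Mathlib.Topology.Algebra.Category.ProfiniteGrp.Completion

/-!
# Functoriality of the profinite completion, level by level
-/

namespace Groth.Agent.Lib.ProCompl.Profinite

open CategoryTheory ProfiniteGrp ProfiniteCompletion Set

universe u

variable {G H : GrpCat.{u}} (f : G ⟶ H)

/-- The map of completions sends the image of `g` to the image of `f g`. -/
lemma map_etaFn (g : G) : (profiniteCompletion.map f).hom (etaFn G g) = etaFn H (f g) :=
  ConcreteCategory.congr_hom (lift_eta (f ≫ eta H)) g

/-- The component of the map of completions. -/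
theorem map_apply (x : completion G) (N : FiniteIndexNormalSubgroup H) :
    ((profiniteCompletion.map f).hom x).1 N =
      QuotientGroup.map (N.comap f.hom).toSubgroup N.toSubgroup f.hom (fun _ h ↦ h)
        (x.1 (N.comap f.hom)) := by
  let F : completion G → ((ProfiniteCompletion.diagram H).obj N) :=
    fun x ↦ ((profiniteCompletion.map f).hom x).1 N
  let F' : completion G → ((ProfiniteCompletion.diagram H).obj N) :=
    fun x ↦ QuotientGroup.map (N.comap f.hom).toSubgroup N.toSubgroup f.hom
      (fun _ h ↦ h) (x.1 (N.comap f.hom))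
  have hF : Continuous F :=
    ((continuous_apply N).comp continuous_subtype_val).comp
      (profiniteCompletion.map f).hom.continuous_toFun
  have hF' : Continuous F' := by
    have : DiscreteTopology ((ProfiniteCompletion.diagram G).obj (N.comap f.hom)) := ⟨rfl⟩
    let Q : (ProfiniteCompletion.diagram G).obj (N.comap f.hom) →
        (ProfiniteCompletion.diagram H).obj N :=
      fun q ↦ QuotientGroup.map (N.comap f.hom).toSubgroup N.toSubgroup f.hom (fun _ h ↦ h) q
    have hQ : Continuous Q := continuous_of_discreteTopology
    exact hQ.comp ((continuous_apply (N.comap f.hom)).comp continuous_subtype_val)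
  refine congrFun ((denseRange (G := G)).equalizer hF hF' (funext fun g ↦ ?_)) x
  show ((profiniteCompletion.map f).hom (etaFn G g)).1 N = _
  rw [map_etaFn]
  rfl

/-- A family which at every level is in the image of `f` is in the image of the completed map. -/
theorem mem_range_map (y : completion H)
    (h : ∀ N : FiniteIndexNormalSubgroup H, ∃ g : G, QuotientGroup.mk (f g) = y.1 N) :
    ∃ x : completion G, (profiniteCompletion.map f).hom x = y := by
  have hcl : IsClosed (range (profiniteCompletion.map f).hom) :=
    (isCompact_range (profiniteCompletion.map f).hom.continuous_toFun).isClosed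
  suffices hy : y ∈ closure (range (profiniteCompletion.map f).hom) by
    rwa [hcl.closure_eq] at hy
  refine mem_closure_iff.mpr ?_
  rintro U ⟨s, hsO, hsv⟩ hyU
  subst hsv
  change y.1 ∈ s at hyU
  obtain ⟨J, fJ, hJ1, hJ2⟩ := isOpen_pi_iff.mp hsO _ hyU
  let M : Subgroup H := iInf fun j : J ↦ j.val
  have hM : M.Normal := Subgroup.normal_iInf_normal fun j ↦ inferInstance
  have hMF : M.FiniteIndex := Subgroup.finiteIndex_iInf fun j ↦ inferInstance
  let m : FiniteIndexNormalSubgroup H := { toSubgroup := M }
  obtain ⟨g, hg⟩ := h m
  refine ⟨etaFn H (f g), ?_, etaFn G g, map_etaFn f g⟩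
  show (etaFn H (f g)).1 ∈ s
  refine hJ2 fun a ha ↦ ?_
  have hle : m ≤ a := (iInf_le (fun j : J ↦ (j.val.toSubgroup : Subgroup H)) ⟨a, ha⟩ : M ≤ _)
  show QuotientGroup.mk (f g) ∈ fJ a
  convert! (hJ1 a ha).2 using 1
  rw [← y.2 hle.hom, ← hg]
  rfl

end Groth.Agent.Lib.ProCompl.Profinite
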